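import Groth.Agent.Pi1.K614.NormPt
import Groth.Agent.Pi1A.NormalFF
import Groth.Agent.Ega4dA.SmoothStalk
import Groth.Agent.Ega1.GenPts
import Groth.Prelude.Def_FEt
import Mathlib.AlgebraicGeometry.Morphisms.Etale
import Mathlib.AlgebraicGeometry.Noetherian

/-!
# Restriction of finite étale covers to the generic fibre of a smooth family

`S` normal integral, `f : X ⟶ S` smooth with connected geometric fibres.

* `isIntegral_genFibre`, `isIntegral_total`: the generic fibre and `X` are integral.
* `fullyFaithful`: restriction of finite étale covers of `X` to the generic fibre is fully faithful.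
-/

set_option autoImplicit false

universe u

open CategoryTheory CategoryTheory.Limits AlgebraicGeometry TopologicalSpace

namespace Groth.Agent.Pi1.K614.FFGen

/-- Smooth over a normal scheme is normal. -/
theorem isNormalScheme_of_smooth {X S : Scheme.{u}} (hS : Pi1.IsNormalScheme S) (f : X ⟶ S)
    [Smooth f] : Pi1.IsNormalScheme X :=
  fun x => Groth.Agent.Ega4dA.SmoothStalk.stalk_of_smooth hS f x

section field

variable {K : Type u} [Field K]

/-- Connectedness descends along a field extension. -/
theorem connectedSpace_of_pullback {X : Scheme.{u}} (p : X ⟶ Spec (CommRingCat.of K)) (L : Type u)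
    [Field L] (t : Spec (CommRingCat.of L) ⟶ Spec (CommRingCat.of K))
    (h : ConnectedSpace ↥(pullback p t)) : ConnectedSpace X := by
  have hs : Surjective t := by
    refine ⟨fun x => ?_⟩
    have : Subsingleton (Spec (CommRingCat.of K)) := inferInstanceAs (Subsingleton (PrimeSpectrum K))
    exact ⟨IsLocalRing.closedPoint L, Subsingleton.elim _ _⟩
  have h1 : Surjective (pullback.fst p t) := inferInstance
  exact h1.surj.connectedSpace (pullback.fst p t).continuous

/-- A connected smooth scheme over a field is integral. -/
theorem isIntegral_of_connected {X : Scheme.{u}} (p : X ⟶ Spec (CommRingCat.of K)) [Smooth p]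
    [ConnectedSpace X] : IsIntegral X := by
  have hK : Pi1.IsNormalScheme (Spec (CommRingCat.of K)) := by
    intro x
    have hxp : x.asIdeal.IsPrime := x.isPrime
    have hle : x.asIdeal.primeCompl ≤ nonZeroDivisors K := x.asIdeal.primeCompl_le_nonZeroDivisors
    have hd : IsDomain (Localization.AtPrime x.asIdeal) :=
      IsLocalization.isDomain_of_le_nonZeroDivisors _ hle
    have hi : IsIntegrallyClosed (Localization.AtPrime x.asIdeal) :=
      isIntegrallyClosed_of_isLocalization (R := K) (Localization.AtPrime x.asIdeal)
        x.asIdeal.primeCompl hle
    let e : (Spec (CommRingCat.of K)).presheaf.stalk x ≃+* Localization.AtPrime x.asIdeal :=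
      (Spec.stalkIso (CommRingCat.of K) x).commRingCatIsoToRingEquiv
    exact ⟨e.toMulEquiv.isDomain _, IsIntegrallyClosed.of_equiv e.symm⟩
  have : IsLocallyNoetherian X := LocallyOfFiniteType.isLocallyNoetherian p
  exact (Groth.Agent.Ega1.GenPts.isIntegral_iff X).mpr
    ⟨inferInstance, fun x => (isNormalScheme_of_smooth hK p x).1⟩

end field

variable {S X : Scheme.{u}} [IsIntegral S] (f : X ⟶ S)

/-- The generic fibre of a smooth family with connected geometric fibres is integral. -/
theorem isIntegral_genFibre [Smooth f]
    (hfib : ∀ (K : Type u) [Field K] [IsAlgClosed K] (t : Spec (CommRingCat.of K) ⟶ S),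
      ConnectedSpace ↥(pullback f t)) :
    IsIntegral (pullback f (S.fromSpecStalk (genericPoint S))) := by
  let _ : Field (S.presheaf.stalk (genericPoint S)) := inferInstanceAs (Field S.functionField)
  let K := (S.presheaf.stalk (genericPoint S) : Type u)
  let q : pullback f (S.fromSpecStalk (genericPoint S)) ⟶ Spec (CommRingCat.of K) :=
    pullback.snd f (S.fromSpecStalk (genericPoint S))
  have hq : Smooth q := inferInstanceAs (Smooth (pullback.snd f (S.fromSpecStalk (genericPoint S))))
  let t : Spec (CommRingCat.of (AlgebraicClosure K)) ⟶ Spec (CommRingCat.of K) :=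
    Spec.map (CommRingCat.ofHom (algebraMap K (AlgebraicClosure K)))
  have h1 : ConnectedSpace ↥(pullback q t) := by
    have h2 := hfib (AlgebraicClosure K) (t ≫ S.fromSpecStalk (genericPoint S))
    let e : pullback q t ≅ pullback f (t ≫ S.fromSpecStalk (genericPoint S)) :=
      pullbackLeftPullbackSndIso f (S.fromSpecStalk (genericPoint S)) t
    exact e.inv.surjective.connectedSpace e.inv.continuous
  have h3 : ConnectedSpace ↥(pullback f (S.fromSpecStalk (genericPoint S))) :=
    connectedSpace_of_pullback q _ t h1
  exact isIntegral_of_connected q

/-- The range of the projection from the generic fibre. -/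
theorem range_fst : Set.range (pullback.fst f (S.fromSpecStalk (genericPoint S))) =
    f ⁻¹' {genericPoint S} := by
  have h1 : Set.range (S.fromSpecStalk (genericPoint S)) = {genericPoint S} := by
    have := NormPt.subsingleton_specStalk S
    ext y
    constructor
    · rintro ⟨x, rfl⟩
      have hx : x = IsLocalRing.closedPoint (S.presheaf.stalk (genericPoint S)) := Subsingleton.elim _ _
      rw [hx]
      exact S.fromSpecStalk_closedPoint
    · rintro rfl
      exact ⟨_, S.fromSpecStalk_closedPoint⟩
  rw [Scheme.Pullback.range_fst, h1]

/-- The generic fibre is dense if `f` is open. -/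
theorem dense_range_fst [UniversallyOpen f] :
    Dense (Set.range (pullback.fst f (S.fromSpecStalk (genericPoint S)))) := by
  rw [range_fst]
  rw [dense_iff_inter_open]
  intro W hW hne
  have h1 : genericPoint S ∈ f '' W :=
    ((genericPoint_spec S).mem_open_set_iff (f.isOpenMap W hW)).mpr (by simpa using hne)
  obtain ⟨x, hx, hfx⟩ := h1
  exact ⟨x, hx, hfx⟩

/-- The total space of a smooth family with connected geometric fibres over a normal integral scheme
is integral. -/
theorem isIntegral_total (hS : Pi1.IsNormalScheme S) [Smooth f]
    (hfib : ∀ (K : Type u) [Field K] [IsAlgClosed K] (t : Spec (CommRingCat.of K) ⟶ S),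
      ConnectedSpace ↥(pullback f t)) : IsIntegral X := by
  have h0 := isIntegral_genFibre f hfib
  have hX := isNormalScheme_of_smooth hS f
  have hred : IsReduced X := by
    have : ∀ x : X, _root_.IsReduced (X.presheaf.stalk x) := fun x => by
      have := (hX x).1
      infer_instance
    exact isReduced_of_isReduced_stalk X
  have hd := dense_range_fst f
  have hirr : IsIrreducible (Set.range (pullback.fst f (S.fromSpecStalk (genericPoint S)))) := by
    rw [← Set.image_univ]
    exact (IrreducibleSpace.isIrreducible_univ _).image _
      (pullback.fst f (S.fromSpecStalk (genericPoint S))).continuous.continuousOn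
  have hirr2 : IsIrreducible (Set.univ : Set X) := by
    rw [← hd.closure_eq]
    exact hirr.closure
  have : IrreducibleSpace X := (irreducibleSpace_def X).mpr hirr2
  exact isIntegral_of_irreducibleSpace_of_isReduced X

/-- The projection from the generic fibre maps the generic point to the generic point. -/
theorem fst_genericPoint [IsIntegral X] [IsIntegral (pullback f (S.fromSpecStalk (genericPoint S)))]
    [UniversallyOpen f] :
    pullback.fst f (S.fromSpecStalk (genericPoint S))
      (genericPoint ↥(pullback f (S.fromSpecStalk (genericPoint S)))) = genericPoint X := by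
  apply ((genericPoint_spec X).eq _).symm
  have h := (genericPoint_spec ↥(pullback f (S.fromSpecStalk (genericPoint S)))).image
    (pullback.fst f (S.fromSpecStalk (genericPoint S))).continuous
  rwa [Set.image_univ, (dense_range_fst f).closure_eq] at h

/-- Restriction of finite étale covers to the generic fibre of a smooth family with connected
geometric fibres over a normal integral scheme is fully faithful. -/
theorem fullyFaithful (hS : Pi1.IsNormalScheme S) [Smooth f]
    (hfib : ∀ (K : Type u) [Field K] [IsAlgClosed K] (t : Spec (CommRingCat.of K) ⟶ S),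
      ConnectedSpace ↥(pullback f t)) :
    (FEt.restrict (pullback.fst f (S.fromSpecStalk (genericPoint S)))).Full ∧
      (FEt.restrict (pullback.fst f (S.fromSpecStalk (genericPoint S)))).Faithful := by
  have h0 := isIntegral_genFibre f hfib
  have h1 := isIntegral_total f hS hfib
  have hX := isNormalScheme_of_smooth hS f
  set b := pullback.fst f (S.fromSpecStalk (genericPoint S)) with hb
  have hpre : IsPreimmersion b := inferInstance
  have hgen : b (genericPoint ↥(pullback f (S.fromSpecStalk (genericPoint S)))) = genericPoint X :=
    fst_genericPoint f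
  apply Groth.Agent.Pi1A.NormalFF.fullyFaithful_of_normal hX
  · intro T
    have : IsPreimmersion (pullback.fst T.hom b) := inferInstance
    exact (pullback.fst T.hom b).isEmbedding.injective
  · exact ⟨_, hgen⟩
  · intro T W hW hne
    have : Etale T.hom := T.prop.2
    have h2 : genericPoint ↥(pullback f (S.fromSpecStalk (genericPoint S))) ∈
        (pullback.snd T.hom b) '' W :=
      ((genericPoint_spec _).mem_open_set_iff ((pullback.snd T.hom b).isOpenMap W hW)).mpr
        (by simpa using hne)
    obtain ⟨w, hw, hw'⟩ := h2
    refine ⟨w, hw, ?_⟩
    rw [← Scheme.Hom.comp_apply, pullback.condition, Scheme.Hom.comp_apply, hw', hgen]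

end Groth.Agent.Pi1.K614.FFGen
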