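import Groth.Agent.Pi1.K614.FFGen

/-!
# Normalization along the generic fibre of a smooth family

* `isIso_stalkMap_of_preimmersion`: a dominant preimmersion of integral schemes is birational.
* `isIso_fromNormalization_of_preimmersion`.
* `isIso_fromNormalization`: for `f : X ⟶ S` smooth with connected geometric fibres, `S` normal integral,
  `X` is its own normalization along the generic fibre.
-/

set_option autoImplicit false

universe u

open CategoryTheory CategoryTheory.Limits AlgebraicGeometry TopologicalSpace

namespace Groth.Agent.Pi1.K614.NormFib

/-- A preimmersion of integral schemes which hits the generic point is birational. -/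
theorem isIso_stalkMap_of_preimmersion {X' P : Scheme.{u}} [IsIntegral X'] [IsIntegral P]
    (b : X' ⟶ P) [IsPreimmersion b] (hgen : b (genericPoint X') = genericPoint P) :
    IsIso (b.stalkMap (genericPoint X')) := by
  rw [ConcreteCategory.isIso_iff_bijective]
  have hfield : IsField (P.presheaf.stalk (b (genericPoint X'))) := by
    rw [hgen]
    exact Field.toIsField P.functionField
  constructor
  · let _ := hfield.toField
    exact RingHom.injective (b.stalkMap (genericPoint X')).hom
  · exact b.stalkMap_surjective (genericPoint X')

/-- A normal integral scheme is its own normalization along a dominant preimmersion from an integral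
scheme. -/
theorem isIso_fromNormalization_of_preimmersion {X' P : Scheme.{u}} [IsIntegral X'] [IsIntegral P]
    (hP : Pi1.IsNormalScheme P) (b : X' ⟶ P) [IsPreimmersion b] [QuasiCompact b] [QuasiSeparated b]
    (hgen : b (genericPoint X') = genericPoint P) : IsIso b.fromNormalization :=
  Ega3B.NormalBirational.isIso_fromNormalization (fun y => (hP y).2) b hgen
    (isIso_stalkMap_of_preimmersion b hgen)

variable {S X : Scheme.{u}} [IsIntegral S] (f : X ⟶ S)

instance quasiCompact_fst :
    QuasiCompact (pullback.fst f (S.fromSpecStalk (genericPoint S))) := inferInstance

instance quasiSeparated_fst :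
    QuasiSeparated (pullback.fst f (S.fromSpecStalk (genericPoint S))) := inferInstance

/-- The total space of a smooth family with connected geometric fibres over a normal integral base is
its own normalization along the generic fibre. -/
theorem isIso_fromNormalization (hS : Pi1.IsNormalScheme S) [Smooth f]
    (hfib : ∀ (K : Type u) [Field K] [IsAlgClosed K] (t : Spec (CommRingCat.of K) ⟶ S),
      ConnectedSpace ↥(pullback f t)) :
    IsIso (pullback.fst f (S.fromSpecStalk (genericPoint S))).fromNormalization := by
  have h0 := FFGen.isIntegral_genFibre f hfib
  have h1 := FFGen.isIntegral_total f hS hfib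
  exact isIso_fromNormalization_of_preimmersion (FFGen.isNormalScheme_of_smooth hS f) _
    (FFGen.fst_genericPoint f)

end Groth.Agent.Pi1.K614.NormFib
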