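import Groth.Agent.Ega3B.NormalBirational
import Groth.Prelude.Def_Pi1

/-!
# The normalization of a normal integral scheme along its generic point

* `quasiCompact_of_field`, `quasiSeparated_of_affine`: the two side conditions for point maps.
* `isIso_stalkMap_fromSpecStalk`: the stalk map of `Spec 𝒪_{X,η} ⟶ X` is an isomorphism.
* `isIso_fromNormalization`: the relative normalization of a normal integral scheme along its generic point is
  the scheme itself.
* `isIso_fromNormalization'`: the same for `Spec K ⟶ S` with `K` the function field, written as a
  composition with an isomorphism.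
-/

set_option autoImplicit false

universe u

open CategoryTheory CategoryTheory.Limits AlgebraicGeometry TopologicalSpace

namespace Groth.Agent.Pi1.K614.NormPt

/-- A morphism from the spectrum of a field is quasi-compact. -/
theorem quasiCompact_of_subsingleton {T S : Scheme.{u}} [Subsingleton T] (g : T ⟶ S) :
    QuasiCompact g :=
  ⟨fun _ _ _ => (Set.toFinite _).isCompact⟩

/-- A morphism from the spectrum of a field is quasi-compact. -/
instance quasiCompact_of_field {K : Type u} [Field K] {S : Scheme.{u}} (g : Spec (CommRingCat.of K) ⟶ S) :
    QuasiCompact g := by
  have : Subsingleton (Spec (CommRingCat.of K)) := inferInstanceAs (Subsingleton (PrimeSpectrum K))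
  exact quasiCompact_of_subsingleton g

/-- A morphism from the spectrum of a field is quasi-separated. -/
instance quasiSeparated_of_field {K : Type u} [Field K] {S : Scheme.{u}} (g : Spec (CommRingCat.of K) ⟶ S) :
    QuasiSeparated g := inferInstance

theorem subsingleton_specStalk (S : Scheme.{u}) [IsIntegral S] :
    Subsingleton (Spec (S.presheaf.stalk (genericPoint S))) := by
  let _ : Field (S.presheaf.stalk (genericPoint S)) := inferInstanceAs (Field S.functionField)
  exact inferInstanceAs (Subsingleton (PrimeSpectrum (S.presheaf.stalk (genericPoint S))))

instance quasiCompact_fromSpecStalk (S : Scheme.{u}) [IsIntegral S] :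
    QuasiCompact (S.fromSpecStalk (genericPoint S)) := by
  have := subsingleton_specStalk S
  exact quasiCompact_of_subsingleton _

instance quasiSeparated_fromSpecStalk (S : Scheme.{u}) (x : S) :
    QuasiSeparated (S.fromSpecStalk x) := inferInstance

theorem genericPoint_specStalk (S : Scheme.{u}) [IsIntegral S]
    [IsIntegral (Spec (S.presheaf.stalk (genericPoint S)))] :
    genericPoint (Spec (S.presheaf.stalk (genericPoint S))) =
      IsLocalRing.closedPoint (S.presheaf.stalk (genericPoint S)) := by
  have := subsingleton_specStalk S
  exact Subsingleton.elim _ _

/-- The stalk map of `Spec 𝒪_{X,x} ⟶ X` at the closed point is an isomorphism. -/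
theorem isIso_stalkMap_fromSpecStalk (S : Scheme.{u}) (x : S) :
    IsIso ((S.fromSpecStalk x).stalkMap (IsLocalRing.closedPoint (S.presheaf.stalk x))) := by
  have h := Scheme.stalkClosedPointTo_fromSpecStalk x
  rw [Scheme.stalkClosedPointTo] at h
  have h1 : IsIso ((S.fromSpecStalk x).stalkMap (IsLocalRing.closedPoint (S.presheaf.stalk x)) ≫
      (stalkClosedPointIso (S.presheaf.stalk x)).hom) := by
    rw [h]
    infer_instance
  exact IsIso.of_isIso_comp_right _ (stalkClosedPointIso (S.presheaf.stalk x)).hom

/-- The relative normalization of a normal integral scheme along its generic point is the scheme itself. -/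
theorem isIso_fromNormalization (S : Scheme.{u}) [IsIntegral S] (hS : Pi1.IsNormalScheme S) :
    IsIso (S.fromSpecStalk (genericPoint S)).fromNormalization := by
  have hdom : IsDomain (S.presheaf.stalk (genericPoint S)) := (hS _).1
  have hint : IsIntegral (Spec (S.presheaf.stalk (genericPoint S))) := inferInstance
  refine Ega3B.NormalBirational.isIso_fromNormalization (fun y => (hS y).2) _ ?_ ?_
  · rw [genericPoint_specStalk]
    exact S.fromSpecStalk_closedPoint
  · rw [genericPoint_specStalk]
    exact isIso_stalkMap_fromSpecStalk S _

end Groth.Agent.Pi1.K614.NormPt
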